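import Groth.Agent.AlgSpCov.RankBound
import Groth.Prelude.Def_MoreMor
import Mathlib.RingTheory.Etale.Field
import Mathlib.FieldTheory.IsSepClosed

/-!
# Geometric points of finite étale morphisms

The number of points of a geometric fibre of a finite étale morphism is its rank.
-/

set_option autoImplicit false
set_option backward.isDefEq.respectTransparency false
set_option backward.isDefEq.respectTransparency.types false

universe u

open CategoryTheory CategoryTheory.Limits AlgebraicGeometry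

namespace Groth.Agent.Unram.FiniteEtaleCard

theorem card_eq_finrank {K : Type u} [Field K] [IsSepClosed K] {P : Scheme.{u}}
    (π : P ⟶ Spec (CommRingCat.of K)) [IsFinite π] [Etale π] (v) :
    ENat.card ↥P = π.finrank v := by
  obtain ⟨aP, hA, hfin, hP, hr⟩ := Groth.Agent.AlgSpCov.RankBound.exists_algebra π
  haveI : Etale (Spec.map (CommRingCat.ofHom (algebraMap K Γ(P, ⊤)))) := hP ▸ inferInstance
  haveI : Algebra.Etale K Γ(P, ⊤) :=
    RingHom.etale_algebraMap.1 ((HasRingHomProperty.Spec_iff (P := @Etale)).1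
      (inferInstance : Etale (Spec.map (CommRingCat.ofHom (algebraMap K Γ(P, ⊤))))) :)
  haveI : IsArtinianRing Γ(P, ⊤) := isArtinian_of_tower K inferInstance
  haveI : Finite (PrimeSpectrum Γ(P, ⊤)) := inferInstance
  cases nonempty_fintype (PrimeSpectrum Γ(P, ⊤))
  rw [hr v, (Algebra.FormallyEtale.equivPiOfIsSepClosed K Γ(P, ⊤)).toLinearEquiv.finrank_eq,
    Module.finrank_fintype_fun_eq_card, ENat.card_congr P.isoSpec.hom.homeomorph.toEquiv]
  exact ENat.card_eq_coe_fintype_card (α := PrimeSpectrum Γ(P, ⊤))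

variable {X Y : Scheme.{u}}

/-- Over an open where `f` is finite étale the count is the rank. -/
theorem card_geomFiber (f : X ⟶ Y) [Etale f] (U : Y.Opens) [IsFinite (f ∣_ U)] (y : U) :
    ENat.card ↥(MoreMor.geomFiber f y.1) = (f ∣_ U).finrank y := by
  haveI : Etale (f ∣_ U) := IsZariskiLocalAtTarget.restrict (P := @Etale) ‹Etale f› U
  let Ω := SeparableClosure (Y.residueField y.1)
  let i : Spec (CommRingCat.of Ω) ⟶ Spec (Y.residueField y.1) :=
    Spec.map (CommRingCat.ofHom (algebraMap (Y.residueField y.1) Ω))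
  let g : Spec (CommRingCat.of Ω) ⟶ Y := i ≫ Y.fromSpecResidueField y.1
  have hg : ∀ t, g t = y.1 := fun t => by
    show (i ≫ Y.fromSpecResidueField y.1) t = _
    rw [Scheme.Hom.comp_apply, Scheme.fromSpecResidueField_apply]
  let l : Spec (CommRingCat.of Ω) ⟶ U := IsOpenImmersion.lift U.ι g (by
    rw [Scheme.Opens.range_ι]
    rintro _ ⟨t, rfl⟩
    rw [hg t]
    exact y.2)
  have hl : l ≫ U.ι = g := IsOpenImmersion.lift_fac _ _ _
  have hlt : ∀ t, l t = y := fun t => U.ι.isOpenEmbedding.injective (by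
    rw [← Scheme.Hom.comp_apply, hl, hg]
    rfl)
  have hp : IsPullback (pullback.fst (f ∣_ U) l ≫ (f ⁻¹ᵁ U).ι) (pullback.snd (f ∣_ U) l) f (l ≫ U.ι) :=
    (IsPullback.of_hasPullback (f ∣_ U) l).paste_horiz (isPullback_morphismRestrict f U).flip
  let e : MoreMor.geomFiber f y.1 ≅ pullback (f ∣_ U) l :=
    pullbackLeftPullbackSndIso f (Y.fromSpecResidueField y.1) i ≪≫ pullback.congrHom rfl hl.symm ≪≫
      hp.isoPullback.symm
  let t : ↥(Spec (CommRingCat.of Ω)) := IsLocalRing.closedPoint Ω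
  rw [ENat.card_congr e.hom.homeomorph.toEquiv, card_eq_finrank (pullback.snd (f ∣_ U) l) t,
    Scheme.Hom.finrank_pullback_snd, hlt]

theorem eventually_card_eq (f : X ⟶ Y) [Etale f] (U : Y.Opens) [IsFinite (f ∣_ U)] (y : U) :
    ∃ V : Y.Opens, y.1 ∈ V ∧ ∀ v ∈ V,
      ENat.card ↥(MoreMor.geomFiber f v) = ENat.card ↥(MoreMor.geomFiber f y.1) := by
  haveI : Etale (f ∣_ U) := IsZariskiLocalAtTarget.restrict (P := @Etale) ‹Etale f› U
  obtain ⟨W, hW, hyW, hconst⟩ :=
    (IsLocallyConstant.iff_exists_open _).1 (f ∣_ U).isLocallyConstant_finrank y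
  refine ⟨U.ι ''ᵁ ⟨W, hW⟩, ⟨y, hyW, rfl⟩, ?_⟩
  rintro _ ⟨v, hv, rfl⟩
  show ENat.card ↥(MoreMor.geomFiber f v.1) = _
  rw [card_geomFiber f U v, card_geomFiber f U y, hconst v hv]

end Groth.Agent.Unram.FiniteEtaleCard
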