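import Groth.Agent.Unram.PunctInt
import Mathlib.AlgebraicGeometry.AffineScheme

/-!
# Sections on the punctured spectrum
-/

set_option autoImplicit false
set_option backward.isDefEq.respectTransparency.types false

universe u

open CategoryTheory AlgebraicGeometry Opposite

namespace Groth.Agent.Unram.PunctSections

theorem main (A : CommRingCat.{u}) [IsNoetherianRing A] [IsLocalRing A] [_root_.IsReduced A]
    (hdim : ∀ (m' : Ideal ↥(integralClosure A (FractionRing A))) [m'.IsMaximal],
      m'.comap (algebraMap A ↥(integralClosure A (FractionRing A))) = IsLocalRing.maximalIdeal A →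
        2 ≤ ringKrullDim (Localization.AtPrime m')) :
    (((Spec A).presheaf.map (homOfLE (le_top : FEt.puncturedSpec A ≤ ⊤)).op).hom.comp
        (Scheme.ΓSpecIso A).inv.hom).IsIntegral ∧
      ∃ φ : ↑((Spec A).presheaf.obj (op (FEt.puncturedSpec A))) →+* ↥(integralClosure A (FractionRing A)),
        Function.Injective φ ∧
          φ.comp (((Spec A).presheaf.map (homOfLE (le_top : FEt.puncturedSpec A ≤ ⊤)).op).hom.comp
            (Scheme.ΓSpecIso A).inv.hom) = algebraMap A ↥(integralClosure A (FractionRing A)) := by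
  let U : (Spec A).Opens := FEt.puncturedSpec A
  let K := FractionRing A
  let ρ : A →+* Γ(Spec A, U) := ((Spec A).presheaf.map (homOfLE (le_top : U ≤ ⊤)).op).hom.comp
    (Scheme.ΓSpecIso A).inv.hom
  obtain ⟨f, hfm, hf⟩ := Groth.Agent.Unram.PunctInt.exists_nonZeroDivisor hdim
  have hle : ∀ g ∈ IsLocalRing.maximalIdeal A, (PrimeSpectrum.basicOpen g : (Spec A).Opens) ≤ U :=
    fun g hg q hq e => hq (by rw [e]; exact hg)
  let res : ∀ {V W : (Spec A).Opens}, W ≤ V → (Γ(Spec A, V) →+* Γ(Spec A, W)) := fun h =>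
    ((Spec A).presheaf.map (homOfLE h).op).hom
  have hres : ∀ {V W : (Spec A).Opens} (h : W ≤ V) (a : A),
      res h (algebraMap A Γ(Spec A, V) a) = algebraMap A Γ(Spec A, W) a := fun {V W} h a => by
    rw [IsAffineOpen.algebraMap_Spec_obj, IsAffineOpen.algebraMap_Spec_obj]
    simp only [CommRingCat.hom_comp, RingHom.comp_apply, res]
    rw [← ConcreteCategory.comp_apply, ← Functor.map_comp]
    rfl
  have hρ : ∀ a : A, ρ a = algebraMap A Γ(Spec A, U) a := fun a => rfl
  have hfu : IsUnit (algebraMap A K f) := IsLocalization.map_units K ⟨f, hf⟩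
  let ψ : Γ(Spec A, PrimeSpectrum.basicOpen f) →+* K := IsLocalization.Away.lift (S := Γ(Spec A, PrimeSpectrum.basicOpen f)) (f : A) (g := (algebraMap A K : A →+* K)) hfu
  have hψ : ∀ a : A, ψ (algebraMap A _ a) = algebraMap A K a := fun a => IsLocalization.Away.lift_eq _ _ a
  let φ₀ : Γ(Spec A, U) →+* K := ψ.comp (res (hle f hfm))
  have hkey : ∀ (s : Γ(Spec A, U)), ∀ g, ∀ hg : g ∈ IsLocalRing.maximalIdeal A, ∃ (n l : ℕ) (a : A),
      res (hle g hg) s * algebraMap A _ (g ^ n) = algebraMap A _ a ∧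
      algebraMap A K g ^ (l + n) * φ₀ s = algebraMap A K (g ^ l * a) := by
    intro s g hg
    obtain ⟨n, a, ha⟩ := IsLocalization.Away.surj (g : A) (res (hle g hg) s)
    obtain ⟨m, b, hb⟩ := IsLocalization.Away.surj (f : A) (res (hle f hfm) s)
    have h₁ : (PrimeSpectrum.basicOpen (g * f) : (Spec A).Opens) ≤ PrimeSpectrum.basicOpen g :=
      PrimeSpectrum.basicOpen_mul_le_left g f
    have h₂ : (PrimeSpectrum.basicOpen (g * f) : (Spec A).Opens) ≤ PrimeSpectrum.basicOpen f :=
      PrimeSpectrum.basicOpen_mul_le_right g f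
    have hcomp : ∀ {V W : (Spec A).Opens} (h : W ≤ V) (h' : V ≤ U) (y : Γ(Spec A, U)),
        res h (res h' y) = res (h.trans h') y := fun h h' y => by
      simp only [res]
      rw [← ConcreteCategory.comp_apply, ← Functor.map_comp]
      rfl
    have ha' := congrArg (res h₁) ha
    have hb' := congrArg (res h₂) hb
    rw [map_mul, map_pow, hres, hres, hcomp] at ha' hb'
    have hz : algebraMap A Γ(Spec A, PrimeSpectrum.basicOpen (g * f)) (g ^ n * b) =
        algebraMap A _ (f ^ m * a) := by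
      rw [map_mul, map_mul, map_pow, map_pow, ← ha', ← hb']
      ring
    obtain ⟨⟨_, l, rfl⟩, hl⟩ := (IsLocalization.eq_iff_exists (Submonoid.powers ((g * f : A) : A)) _).1 hz
    have hl' : g ^ (l + n) * b = g ^ l * a * f ^ m := by
      have h0 : (g ^ (l + n) * b - g ^ l * a * f ^ m) * f ^ l = 0 := by
        have hl : (g * f : A) ^ l * (g ^ n * b) = (g * f) ^ l * (f ^ m * a) := hl
        linear_combination hl
      exact sub_eq_zero.1 (mem_nonZeroDivisors_iff_right.1 (pow_mem hf l) _ h0)
    refine ⟨n, l, a, ?_, ?_⟩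
    · rw [map_pow]; exact ha
    · have hb'' : φ₀ s * algebraMap A K f ^ m = algebraMap A K b := by
        have := congrArg ψ hb
        rwa [map_mul, map_pow, hψ, hψ] at this
      refine (hfu.pow m).mul_right_cancel ?_
      rw [mul_assoc, hb'', ← map_pow, ← map_mul, ← map_pow, ← map_mul, hl']
  have hint : ∀ s, IsIntegral A (φ₀ s) := fun s =>
    Groth.Agent.Unram.PunctInt.isIntegral_of_forall_pow_mul hdim fun g hg => by
      obtain ⟨n, l, a, -, h⟩ := hkey s g hg
      exact ⟨l + n, g ^ l * a, h.symm⟩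
  have hinj : Function.Injective φ₀ := by
    refine (injective_iff_map_eq_zero φ₀).2 fun s hs => ?_
    refine TopCat.Sheaf.eq_of_locally_eq' (Spec A).sheaf
      (fun g : IsLocalRing.maximalIdeal A => (PrimeSpectrum.basicOpen g.1 : (Spec A).Opens)) U
      (fun g => homOfLE (hle g.1 g.2)) (fun q hq => ?_) s 0 fun g => ?_
    · obtain ⟨g, hg, hgq⟩ := SetLike.not_le_iff_exists.1
        (show ¬ IsLocalRing.maximalIdeal A ≤ q.asIdeal from fun h => hq (PrimeSpectrum.ext
          ((IsLocalRing.maximalIdeal.isMaximal A).eq_of_le q.isPrime.ne_top h).symm))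
      exact TopologicalSpace.Opens.mem_iSup.2 ⟨⟨g, hg⟩, hgq⟩
    · obtain ⟨n, l, a, ha, h⟩ := hkey s g.1 g.2
      rw [hs, mul_zero, eq_comm, map_eq_zero_iff _ (IsFractionRing.injective A K)] at h
      rw [map_zero]
      show res (hle g.1 g.2) s = 0
      refine ((IsLocalization.map_units Γ(Spec A, PrimeSpectrum.basicOpen g.1)
        (⟨(g.1 : A) ^ n, n, rfl⟩ : Submonoid.powers (g.1 : A)))).mul_left_eq_zero.1 ?_
      refine ha.trans ((IsLocalization.map_eq_zero_iff (Submonoid.powers (g.1 : A)) _ _).2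
        ⟨⟨_, l, rfl⟩, h⟩)
  have hφρ : ∀ a : A, φ₀ (ρ a) = algebraMap A K a := fun a => by
    show ψ (res _ (algebraMap A Γ(Spec A, U) a)) = _
    rw [hres]
    exact hψ a
  refine ⟨fun s => ?_, φ₀.codRestrict (integralClosure A K).toSubring hint,
    fun a b h => hinj (congrArg Subtype.val h), RingHom.ext fun a => Subtype.ext (hφρ a)⟩
  obtain ⟨p, hp, hp0⟩ := hint s
  refine ⟨p, hp, hinj ?_⟩
  rw [map_zero, Polynomial.hom_eval₂]
  rw [show φ₀.comp ρ = algebraMap A K from RingHom.ext hφρ]
  exact hp0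


end Groth.Agent.Unram.PunctSections
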