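import Groth.Agent.S12124
import Groth.Prelude.Def_FEt
import Mathlib

/-!
# Fractions of a reduced Noetherian ring and the integral closure

An element of the total ring of fractions of a reduced Noetherian local ring which is multiplied
into the ring by powers of all elements of the maximal ideal is integral, provided all local rings
of the integral closure at maximal ideals have dimension at least two.
-/

set_option autoImplicit false

universe u

open IsLocalRing

namespace Groth.Agent.Unram.PunctInt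

section Domain

variable (D : Type u) [CommRing D] [IsDomain D] [IsNoetherianRing D] [IsLocalRing D]

local notation "KD" => FractionRing D
local notation "D'" => integralClosure D (FractionRing D)

theorem exists_maximal_dim_le_one (x : KD)
    (hx : ∀ a ∈ maximalIdeal D, ∃ n : ℕ, ∃ b : D, algebraMap D KD b = algebraMap D KD a ^ n * x)
    (hni : ¬ IsIntegral D x) :
    ∃ (m' : Ideal D') (_ : m'.IsMaximal), ringKrullDim (Localization.AtPrime m') ≤ 1 := by
  obtain ⟨C, hC, hdvr, hcut, -⟩ := Groth.Agent.S12124.result (A := D)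
  haveI : Algebra.IsIntegral D C := Algebra.IsIntegral.of_finite D C
  obtain ⟨p, hp, hp1, hxp⟩ : ∃ (p : Ideal C) (_ : p.IsPrime), p.height = 1 ∧
      ∀ s : C, s ∉ p → ¬ IsIntegral C ((s : KD) * x) := by
    by_contra hcon
    push Not at hcon
    exact hni ((hcut x).2 fun p hp h1 => hcon p hp h1)
  obtain ⟨V, hV, hVmem⟩ := hdvr p hp1
  have h1p : (1 : C) ∉ p := fun h => hp.ne_top ((Ideal.eq_top_iff_one p).2 h)
  have hxV : x ∉ V := fun h => by
    obtain ⟨s, hs, hs'⟩ := (hVmem x).1 h
    exact hxp s hs hs'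
  have hintV : ∀ y : KD, IsIntegral C y → y ∈ V := fun y hy =>
    (hVmem y).2 ⟨1, h1p, by simpa using hy⟩
  have hD'V : ∀ y : D', (y : KD) ∈ V := fun y => hintV y (IsIntegral.tower_top y.2)
  have hDV : ∀ a : D, algebraMap D KD a ∈ V := fun a =>
    hD'V ⟨algebraMap D KD a, isIntegral_algebraMap⟩
  let ι : D' →+* V := (Subalgebra.val (integralClosure D (FractionRing D))).toRingHom.codRestrict V.toSubring hD'V
  let P : Ideal D' := (maximalIdeal V).comap ι
  haveI : P.IsPrime := Ideal.IsPrime.comap _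
  have hPm : P.comap (algebraMap D D') = maximalIdeal D := by
    refine le_antisymm (le_maximalIdeal (Ideal.IsPrime.comap _).ne_top) fun a ha => ?_
    show ι (algebraMap D D' a) ∈ maximalIdeal V
    rw [mem_maximalIdeal, mem_nonunits_iff]
    intro hu
    obtain ⟨n, b, hb⟩ := hx a ha
    obtain ⟨v, hv⟩ := hu.pow n
    refine hxV ?_
    have hb' : (((v : V) : KD)) * x = algebraMap D KD b := by
      rw [hb, hv]; push_cast; rfl
    have hvinv : (((v⁻¹ : Vˣ) : V) : KD) * (((v : V) : KD)) = 1 := by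
      show ((((v⁻¹ : Vˣ) : V) * (v : V) : V) : KD) = 1
      rw [Units.inv_mul]; rfl
    have : x = (((v⁻¹ : Vˣ) : V) : KD) * algebraMap D KD b := by
      rw [← hb', ← mul_assoc, hvinv, one_mul]
    rw [this]
    exact V.mul_mem _ _ ((v⁻¹ : Vˣ) : V).2 (hDV b)
  haveI : P.IsMaximal := Ideal.isMaximal_of_isIntegral_of_isMaximal_comap P
    (by rw [hPm]; infer_instance)
  refine ⟨P, inferInstance, ?_⟩
  have hunit : ∀ y : P.primeCompl, IsUnit (ι y) := fun y => by
    by_contra h
    exact y.2 (show ι y ∈ maximalIdeal V from (mem_maximalIdeal _).2 h)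
  let φ : Localization.AtPrime P →+* V := IsLocalization.lift hunit
  have hinj : Function.Injective φ := by
    refine (IsLocalization.lift_injective_iff hunit).2 fun a b => ?_
    constructor
    · intro h
      obtain ⟨c, hc⟩ := (IsLocalization.eq_iff_exists P.primeCompl _).1 h
      have := congrArg ι hc
      rw [map_mul, map_mul] at this
      exact (hunit c).mul_left_cancel this
    · intro h
      have : a = b := Subtype.ext (congrArg (fun z : V => (z : KD)) h)
      rw [this]
  have hsurj : Function.Surjective φ := by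
    intro v
    obtain ⟨s, hs, hsv⟩ := (hVmem v.1).1 v.2
    have hsD : IsIntegral D (s : KD) :=
      (Algebra.IsIntegral.isIntegral (R := D) s).map C.val
    have hsvD : IsIntegral D ((s : KD) * v.1) := isIntegral_trans (A := C) _ hsv
    let s' : D' := ⟨(s : KD), hsD⟩
    have hs0 : (s : KD) ≠ 0 := fun h => hs (by
      rw [show s = 0 from Subtype.ext h]; exact p.zero_mem)
    have hinv : (s : KD)⁻¹ ∈ V := (hVmem _).2 ⟨s, hs, by rw [mul_inv_cancel₀ hs0]; exact isIntegral_one⟩
    have hsP : s' ∉ P := fun h => by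
      refine ((mem_maximalIdeal _).1 (show ι s' ∈ maximalIdeal V from h)) ?_
      exact IsUnit.of_mul_eq_one ⟨(s : KD)⁻¹, hinv⟩ (Subtype.ext (mul_inv_cancel₀ hs0))
    refine ⟨IsLocalization.mk' _ (⟨(s : KD) * v.1, hsvD⟩ : D') (⟨s', hsP⟩ : P.primeCompl), ?_⟩
    rw [IsLocalization.lift_mk'_spec]
    exact Subtype.ext rfl
  rw [ringKrullDim_eq_of_ringEquiv (RingEquiv.ofBijective φ ⟨hinj, hsurj⟩)]
  exact (IsPrincipalIdealRing.ringKrullDim_eq_one V (IsDiscreteValuationRing.not_isField V)).le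

end Domain

section Reduced

variable {A : Type u} [CommRing A]

local notation "KA" => FractionRing A

theorem eq_zero_of_forall_minimal [IsReduced A] {a : A} (h : ∀ P ∈ minimalPrimes A, a ∈ P) : a = 0 := by
  have : a ∈ nilradical A := by
    rw [nilradical_eq_sInf, Ideal.mem_sInf]
    intro p hp
    haveI : p.IsPrime := hp
    obtain ⟨Q, hQ, hle⟩ := Ideal.exists_minimalPrimes_le (show (⊥ : Ideal A) ≤ p from bot_le)
    exact hle (h Q hQ)
  rwa [nilradical_eq_zero, Ideal.zero_eq_bot, Ideal.mem_bot] at this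

theorem mem_nonZeroDivisors_of_avoid [IsReduced A] {a : A} (h : ∀ P ∈ minimalPrimes A, a ∉ P) :
    a ∈ nonZeroDivisors A := by
  rw [mem_nonZeroDivisors_iff_right]
  intro z hz
  exact eq_zero_of_forall_minimal fun P hP =>
    (hP.1.1.mem_or_mem (show z * a ∈ P by rw [hz]; exact P.zero_mem)).resolve_right (h P hP)

theorem notMem_of_nonZeroDivisors (P : minimalPrimes A) (s : nonZeroDivisors A) : (s : A) ∉ P.1 :=
  fun h => Set.disjoint_left.1 (Ideal.disjoint_nonZeroDivisors_of_mem_minimalPrimes P.2) h s.2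

instance (P : minimalPrimes A) : P.1.IsPrime := P.2.1.1

/-- The component at a minimal prime. -/
noncomputable def comp (P : minimalPrimes A) : KA →ₐ[A] FractionRing (A ⧸ P.1) :=
  { (IsLocalization.lift (M := nonZeroDivisors A) (S := KA)
      (g := algebraMap A (FractionRing (A ⧸ P.1))) fun s => by
        refine IsUnit.mk0 _ ?_
        rw [IsScalarTower.algebraMap_apply A (A ⧸ P.1), Ne,
          IsFractionRing.to_map_eq_zero_iff, Ideal.Quotient.algebraMap_eq, Ideal.Quotient.eq_zero_iff_mem]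
        exact notMem_of_nonZeroDivisors P s) with
    commutes' := fun a => IsLocalization.lift_eq _ a }

theorem eq_zero_of_comp [IsReduced A] {z : KA} (h : ∀ P : minimalPrimes A, comp P z = 0) : z = 0 := by
  obtain ⟨a, s, rfl⟩ := IsLocalization.exists_mk'_eq (nonZeroDivisors A) z
  rw [IsLocalization.mk'_eq_zero_iff]
  refine ⟨1, ?_⟩
  rw [OneMemClass.coe_one, one_mul]
  refine eq_zero_of_forall_minimal fun P hP => ?_
  have h1 := congrArg (comp ⟨P, hP⟩) (IsLocalization.mk'_spec KA a s)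
  rw [map_mul, h ⟨P, hP⟩, zero_mul, AlgHom.commutes,
    IsScalarTower.algebraMap_apply A (A ⧸ P) (FractionRing (A ⧸ P))] at h1
  rw [← Ideal.Quotient.eq_zero_iff_mem, ← IsFractionRing.to_map_eq_zero_iff (K := FractionRing (A ⧸ P))]
  exact h1.symm

theorem isIntegral_of_comp [IsReduced A] [IsNoetherianRing A] {z : KA}
    (h : ∀ P : minimalPrimes A, IsIntegral A (comp P z)) : IsIntegral A z := by
  haveI := (minimalPrimes.finite_of_isNoetherianRing A).to_subtype
  cases nonempty_fintype (minimalPrimes A)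
  choose f hf hf0 using h
  refine ⟨∏ P, f P, Polynomial.monic_prod_of_monic _ _ fun P _ => hf P, eq_zero_of_comp fun P => ?_⟩
  rw [← Polynomial.aeval_def, ← Polynomial.aeval_algHom_apply, map_prod]
  exact Finset.prod_eq_zero (Finset.mem_univ P) (hf0 P)

theorem exists_avoid [IsNoetherianRing A] (P : minimalPrimes A) :
    ∃ c d : A, c ∉ P.1 ∧ (∀ Q ∈ minimalPrimes A, Q ≠ P.1 → c ∈ Q) ∧ d ∈ P.1 ∧
      ∀ Q ∈ minimalPrimes A, Q ≠ P.1 → d ∉ Q := by
  classical
  let T := (minimalPrimes.finite_of_isNoetherianRing A).toFinset.erase P.1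
  have hT : ∀ Q, Q ∈ T ↔ Q ∈ minimalPrimes A ∧ Q ≠ P.1 := fun Q => by simp [T, and_comm]
  have hc : ¬ T.inf id ≤ P.1 := fun h => by
    obtain ⟨Q, hQ, hle⟩ := (Ideal.IsPrime.inf_le' P.2.1.1).1 h
    exact ((hT Q).1 hQ).2 (le_antisymm hle (P.2.2 ((hT Q).1 hQ).1.1 hle))
  obtain ⟨c, hc, hcP⟩ := SetLike.not_le_iff_exists.1 hc
  have hd : ¬ (P.1 : Set A) ⊆ ⋃ Q ∈ (T : Set (Ideal A)), (Q : Set A) := fun h => by
    obtain ⟨Q, hQ, hle⟩ := (Ideal.subset_union_prime ⊥ ⊥ (s := T) (f := id)
      (fun i hi _ _ => ((hT i).1 hi).1.1.1)).1 h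
    exact ((hT Q).1 hQ).2 (le_antisymm (((hT Q).1 hQ).1.2 P.2.1 hle) hle)
  obtain ⟨d, hdP, hd⟩ := Set.not_subset.1 hd
  refine ⟨c, d, hcP, fun Q hQ hne => ?_, hdP, fun Q hQ hne h => hd ?_⟩
  · exact (Finset.inf_le ((hT Q).2 ⟨hQ, hne⟩) : T.inf id ≤ Q) hc
  · exact Set.mem_iUnion₂.2 ⟨Q, (hT Q).2 ⟨hQ, hne⟩, h⟩

theorem exists_single [IsReduced A] [IsNoetherianRing A] (P : minimalPrimes A)
    (w : FractionRing (A ⧸ P.1)) :
    ∃ z : KA, comp P z = w ∧ ∀ Q : minimalPrimes A, Q ≠ P → comp Q z = 0 := by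
  obtain ⟨c, d, hcP, hc, hdP, hd⟩ := exists_avoid P
  obtain ⟨a, s, rfl⟩ := IsLocalization.exists_mk'_eq (nonZeroDivisors (A ⧸ P.1)) w
  obtain ⟨a₀, rfl⟩ := Ideal.Quotient.mk_surjective a
  obtain ⟨s₀, hs₀⟩ := Ideal.Quotient.mk_surjective (s : A ⧸ P.1)
  have hs₀P : s₀ ∉ P.1 := fun h => nonZeroDivisors.coe_ne_zero s (by
    rw [← hs₀]; exact Ideal.Quotient.eq_zero_iff_mem.2 h)
  have ht : s₀ * c + d ∈ nonZeroDivisors A := mem_nonZeroDivisors_of_avoid fun Q hQ h => by
    rcases eq_or_ne Q P.1 with rfl | hne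
    · exact (P.2.1.1.mem_or_mem ((Ideal.add_mem_iff_left _ hdP).1 h)).elim hs₀P hcP
    · exact hd Q hQ hne ((Ideal.add_mem_iff_right _ (Ideal.mul_mem_left _ _ (hc Q hQ hne))).1 h)
  refine ⟨IsLocalization.mk' KA (a₀ * c) ⟨_, ht⟩, ?_, fun Q hQ => ?_⟩
  · have hne : algebraMap A (FractionRing (A ⧸ P.1)) (s₀ * c + d) ≠ 0 := by
      rw [IsScalarTower.algebraMap_apply A (A ⧸ P.1), Ne, IsFractionRing.to_map_eq_zero_iff,
        Ideal.Quotient.algebraMap_eq, Ideal.Quotient.eq_zero_iff_mem]
      exact notMem_of_nonZeroDivisors P ⟨_, ht⟩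
    have e1 := congrArg (comp P) (IsLocalization.mk'_spec KA (a₀ * c) (⟨_, ht⟩ : nonZeroDivisors A))
    rw [map_mul, AlgHom.commutes, AlgHom.commutes] at e1
    refine mul_right_cancel₀ hne (e1.trans ?_)
    have hq : ∀ r : A, algebraMap A (FractionRing (A ⧸ P.1)) r =
        algebraMap (A ⧸ P.1) (FractionRing (A ⧸ P.1)) (Ideal.Quotient.mk P.1 r) := fun r => rfl
    have hst : Ideal.Quotient.mk P.1 (s₀ * c + d) = (s : A ⧸ P.1) * Ideal.Quotient.mk P.1 c := by
      rw [map_add, map_mul, Ideal.Quotient.eq_zero_iff_mem.2 hdP, add_zero, hs₀]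
    rw [hq, hq, hst, map_mul, map_mul, map_mul, ← mul_assoc, IsLocalization.mk'_spec]
  · have hne : algebraMap A (FractionRing (A ⧸ Q.1)) (s₀ * c + d) ≠ 0 := by
      rw [IsScalarTower.algebraMap_apply A (A ⧸ Q.1), Ne, IsFractionRing.to_map_eq_zero_iff,
        Ideal.Quotient.algebraMap_eq, Ideal.Quotient.eq_zero_iff_mem]
      exact notMem_of_nonZeroDivisors Q ⟨_, ht⟩
    refine mul_right_cancel₀ hne ?_
    rw [zero_mul, ← (comp Q).commutes, ← map_mul, IsLocalization.mk'_spec, AlgHom.commutes,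
      IsScalarTower.algebraMap_apply A (A ⧸ Q.1), Ideal.Quotient.algebraMap_eq,
      Ideal.Quotient.eq_zero_iff_mem.2 (Ideal.mul_mem_left _ _ (hc Q.1 Q.2 fun e => hQ (Subtype.ext e))),
      map_zero]

variable [IsReduced A] [IsNoetherianRing A] [IsLocalRing A]

/-- Localizations of the integral closure at maximal ideals see those of the components. -/
theorem exists_maximal_of_component (P : minimalPrimes A)
    (m' : Ideal (integralClosure (A ⧸ P.1) (FractionRing (A ⧸ P.1)))) [m'.IsMaximal] :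
    ∃ (M : Ideal (integralClosure A KA)) (_ : M.IsMaximal),
      M.comap (algebraMap A (integralClosure A KA)) = maximalIdeal A ∧
        ringKrullDim (Localization.AtPrime M) = ringKrullDim (Localization.AtPrime m') := by
  let π : integralClosure A KA →+* integralClosure (A ⧸ P.1) (FractionRing (A ⧸ P.1)) :=
    ((comp P).toRingHom.comp (integralClosure A KA).val.toRingHom).codRestrict
      (integralClosure (A ⧸ P.1) (FractionRing (A ⧸ P.1))).toSubring
      fun z => IsIntegral.tower_top (z.2.map (comp P))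
  have hlift : ∀ w : integralClosure (A ⧸ P.1) (FractionRing (A ⧸ P.1)), ∃ z, π z = w ∧
      ∀ Q : minimalPrimes A, Q ≠ P → comp Q (z : KA) = 0 := fun w => by
    obtain ⟨z, hz, hz'⟩ := exists_single P (w : FractionRing (A ⧸ P.1))
    refine ⟨⟨z, isIntegral_of_comp fun Q => ?_⟩, Subtype.ext hz, hz'⟩
    by_cases h : Q = P
    · subst h; rw [hz]; exact isIntegral_trans (A := A ⧸ Q.1) _ w.2
    · rw [hz' Q h]; exact isIntegral_zero
  have hsurj : Function.Surjective π := fun w => let ⟨z, hz, _⟩ := hlift w; ⟨z, hz⟩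
  haveI hM : (m'.comap π).IsMaximal := Ideal.comap_isMaximal_of_surjective π hsurj
  refine ⟨m'.comap π, hM, IsLocalRing.eq_maximalIdeal
    (Ideal.isMaximal_comap_of_isIntegral_of_isMaximal _), ?_⟩
  refine ringKrullDim_eq_of_ringEquiv (RingEquiv.ofBijective
    (Localization.localRingHom (m'.comap π) m' π rfl) ⟨?_, ?_⟩)
  · rw [injective_iff_map_eq_zero]
    intro y hy
    obtain ⟨z, t, rfl⟩ := IsLocalization.exists_mk'_eq (m'.comap π).primeCompl y
    rw [Localization.localRingHom_mk', IsLocalization.mk'_eq_zero_iff] at hy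
    obtain ⟨s, hs⟩ := hy
    obtain ⟨s₀, hs₀, hs₀'⟩ := hlift s
    refine (IsLocalization.mk'_eq_zero_iff _ _).2 ⟨⟨s₀, show π s₀ ∉ m' by rw [hs₀]; exact s.2⟩,
      Subtype.ext (eq_zero_of_comp fun Q => ?_)⟩
    by_cases h : Q = P
    · subst h
      show comp Q ((s₀ : KA) * (z : KA)) = 0
      exact congrArg Subtype.val (show π (s₀ * z) = 0 by rw [map_mul, hs₀]; exact hs)
    · show comp Q ((s₀ : KA) * (z : KA)) = 0
      rw [map_mul, hs₀' Q h, zero_mul]
  · intro y
    obtain ⟨w, t, rfl⟩ := IsLocalization.exists_mk'_eq m'.primeCompl y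
    obtain ⟨z, hz⟩ := hsurj w
    obtain ⟨t₀, ht₀⟩ := hsurj t
    refine ⟨IsLocalization.mk' _ z (⟨t₀, show π t₀ ∉ m' by rw [ht₀]; exact t.2⟩ : (m'.comap π).primeCompl), ?_⟩
    rw [Localization.localRingHom_mk']
    congr 1
    exact Subtype.ext ht₀

theorem exists_nonZeroDivisor
    (hdim : ∀ (M : Ideal ↥(integralClosure A (FractionRing A))) [M.IsMaximal],
    M.comap (algebraMap A ↥(integralClosure A (FractionRing A))) = IsLocalRing.maximalIdeal A →
      2 ≤ ringKrullDim (Localization.AtPrime M)) : ∃ f ∈ maximalIdeal A, f ∈ nonZeroDivisors A := by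
  by_contra hcon
  push Not at hcon
  have hfin := minimalPrimes.finite_of_isNoetherianRing A
  obtain ⟨P, hP, hle⟩ := (Ideal.subset_union_prime ⊥ ⊥ (s := hfin.toFinset) (f := id)
    (fun i hi _ _ => (hfin.mem_toFinset.mp hi).1.1)).mp (fun a ha => by
      by_contra h
      exact hcon a ha (mem_nonZeroDivisors_of_avoid fun P hP h' =>
        h (Set.mem_iUnion₂.mpr ⟨P, hfin.mem_toFinset.mpr hP, h'⟩)))
  have hP' := hfin.mem_toFinset.mp hP
  haveI : P.IsMaximal := by
    have h := (IsLocalRing.maximalIdeal.isMaximal A).eq_of_le hP'.1.1.ne_top hle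
    rw [show P = maximalIdeal A from h.symm]
    infer_instance
  let P' : minimalPrimes A := ⟨P, hP'⟩
  let D := A ⧸ P'.1
  have hfield : IsField (integralClosure D (FractionRing D)) := by
    refine isField_of_isIntegral_of_isField' (R := D) (S := integralClosure D (FractionRing D)) ?_
    exact (Ideal.Quotient.maximal_ideal_iff_isField_quotient P).1 inferInstance
  obtain ⟨m', hm'⟩ := Ideal.exists_maximal (integralClosure D (FractionRing D))
  obtain ⟨M, hM, hMm, hMd⟩ := exists_maximal_of_component P' m'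
  have h2 := hdim M hMm
  rw [hMd] at h2
  have h0 : ringKrullDim (Localization.AtPrime m') ≤ 0 := by
    refine le_of_eq ((IsLocalization.AtPrime.ringKrullDim_eq_height m' (Localization.AtPrime m')).trans ?_)
    letI := hfield.toField
    rw [show m' = ⊥ from (Ideal.eq_bot_or_top m').resolve_right hm'.ne_top, Ideal.height_bot]
    rfl
  exact absurd (h2.trans h0) (by decide)

theorem isIntegral_of_forall_pow_mul
    (hdim : ∀ (M : Ideal ↥(integralClosure A (FractionRing A))) [M.IsMaximal],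
    M.comap (algebraMap A ↥(integralClosure A (FractionRing A))) = IsLocalRing.maximalIdeal A →
      2 ≤ ringKrullDim (Localization.AtPrime M)) {x : KA}
    (hx : ∀ a ∈ maximalIdeal A, ∃ n : ℕ, ∃ b : A, algebraMap A KA b = algebraMap A KA a ^ n * x) :
    IsIntegral A x := by
  refine isIntegral_of_comp fun P => ?_
  haveI : IsLocalRing (A ⧸ P.1) :=
    IsLocalRing.of_surjective' (Ideal.Quotient.mk P.1) Ideal.Quotient.mk_surjective
  suffices h : IsIntegral (A ⧸ P.1) (comp P x) from isIntegral_trans (A := A ⧸ P.1) _ h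
  by_contra hni
  obtain ⟨m', hm', h1⟩ := exists_maximal_dim_le_one (A ⧸ P.1) (comp P x) (fun a ha => by
    obtain ⟨a₀, rfl⟩ := Ideal.Quotient.mk_surjective a
    obtain ⟨n, b, hb⟩ := hx a₀ (by
      rw [mem_maximalIdeal, mem_nonunits_iff] at ha ⊢
      exact fun hu => ha (hu.map _))
    refine ⟨n, Ideal.Quotient.mk P.1 b, ?_⟩
    have := congrArg (comp P) hb
    rw [map_mul, map_pow, AlgHom.commutes, AlgHom.commutes,
      IsScalarTower.algebraMap_apply A (A ⧸ P.1), IsScalarTower.algebraMap_apply A (A ⧸ P.1)] at this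
    exact this) hni
  obtain ⟨M, hM, hMm, hMd⟩ := exists_maximal_of_component P m'
  have h2 := hdim M hMm
  rw [hMd] at h2
  exact absurd (h2.trans h1) (by decide)

end Reduced

end Groth.Agent.Unram.PunctInt
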